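import Groth.Agent.Lib.GrpSchField.Neron
import Groth.Agent.Lib.EtDescent21.StalkLimit
import Groth.Agent.Lib.LimDescend.Property
import Groth.Agent.Lib.LimSmooth.Reduction
import Mathlib.AlgebraicGeometry.Noetherian

/-!
# The unique extension property over the local ring of a point
-/

set_option autoImplicit false
set_option linter.all false
set_option backward.isDefEq.respectTransparency false

universe u

open CategoryTheory CategoryTheory.Limits AlgebraicGeometry
open GrothLib.GrpSchField GrothLib.EtDescent21 GrothLib.LimDesc GrothLib.LimDescend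

noncomputable section

namespace GrothLib.NeronLoc10

variable {S S₀ N : Scheme.{u}}

/-- Unique extension may be checked on affine open pieces. -/
theorem uext_of_affine {X : Scheme.{u}} (zh : X ⟶ S) (nh : N ⟶ S) (j : S₀ ⟶ S)
    (H : ∀ {A : Scheme.{u}} [IsAffine A] (e : A ⟶ X) [IsOpenImmersion e],
      UExt (e ≫ zh) nh (pullback.fst (e ≫ zh) j)) :
    UExt zh nh (pullback.fst zh j) := by
  intro h hh
  let lA : ∀ {A : Scheme.{u}} (e : A ⟶ X), pullback (e ≫ zh) j ⟶ pullback zh j := fun e =>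
    pullback.lift (pullback.fst _ _ ≫ e) (pullback.snd _ _) (by rw [Category.assoc, pullback.condition])
  have hl : ∀ {A : Scheme.{u}} (e : A ⟶ X),
      lA e ≫ pullback.fst zh j = pullback.fst (e ≫ zh) j ≫ e := fun e => pullback.lift_fst _ _ _
  have hloc : ∀ {A : Scheme.{u}} [IsAffine A] (e : A ⟶ X) [IsOpenImmersion e],
      ∃! g : A ⟶ N, g ≫ nh = e ≫ zh ∧ pullback.fst (e ≫ zh) j ≫ g = lA e ≫ h :=
    fun e _ => H e (lA e ≫ h) (by rw [Category.assoc, hh, reassoc_of% (hl e)])
  have hres : ∀ {A A' : Scheme.{u}} [IsAffine A'] (k : A' ⟶ A) (e : A ⟶ X) (e' : A' ⟶ X)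
      [IsOpenImmersion e'] (he : k ≫ e = e') (g : A ⟶ N), g ≫ nh = e ≫ zh →
      pullback.fst (e ≫ zh) j ≫ g = lA e ≫ h →
      (k ≫ g) ≫ nh = e' ≫ zh ∧ pullback.fst (e' ≫ zh) j ≫ k ≫ g = lA e' ≫ h := by
    intro A A' _ k e e' _ he g hg1 hg2
    let θ : pullback (e' ≫ zh) j ⟶ pullback (e ≫ zh) j :=
      pullback.lift (pullback.fst _ _ ≫ k) (pullback.snd _ _) (by
        rw [Category.assoc, ← Category.assoc k, he, pullback.condition])
    have hθ : θ ≫ pullback.fst (e ≫ zh) j = pullback.fst (e' ≫ zh) j ≫ k := pullback.lift_fst _ _ _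
    have hθl : θ ≫ lA e = lA e' := by
      apply pullback.hom_ext
      · rw [Category.assoc, hl, reassoc_of% hθ, he, hl]
      · simp only [θ, lA, Category.assoc, pullback.lift_snd]
    refine ⟨by rw [Category.assoc, hg1, ← Category.assoc, he], ?_⟩
    rw [← reassoc_of% hθ, hg2, reassoc_of% hθl]
  let 𝒰 := X.affineCover
  choose g hg hu using fun i => hloc (𝒰.f i)
  have hglue : ∀ a b, pullback.fst (𝒰.f a) (𝒰.f b) ≫ g a = pullback.snd (𝒰.f a) (𝒰.f b) ≫ g b := by
    intro a b
    refine Scheme.Cover.hom_ext (pullback (𝒰.f a) (𝒰.f b)).affineCover _ _ fun i => ?_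
    let c := (pullback (𝒰.f a) (𝒰.f b)).affineCover.f i
    let e := c ≫ pullback.fst (𝒰.f a) (𝒰.f b) ≫ 𝒰.f a
    haveI : IsOpenImmersion e := inferInstanceAs (IsOpenImmersion (_ ≫ _ ≫ _))
    have h1 := hres (c ≫ pullback.fst _ _) (𝒰.f a) e (Category.assoc _ _ _) (g a) (hg a).1 (hg a).2
    have h2 := hres (c ≫ pullback.snd _ _) (𝒰.f b) e
      (by rw [Category.assoc, ← pullback.condition]) (g b) (hg b).1 (hg b).2
    have := (hloc e).unique h1 h2
    simpa [Category.assoc] using this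
  let G := 𝒰.glueMorphisms g hglue
  have hG : ∀ i, 𝒰.f i ≫ G = g i := fun i => 𝒰.ι_glueMorphisms g hglue i
  refine ⟨G, ⟨Scheme.Cover.hom_ext 𝒰 _ _ fun i => ?_, ?_⟩, fun G' hG' => Scheme.Cover.hom_ext 𝒰 _ _ fun i => ?_⟩
  · rw [reassoc_of% (hG i)]
    exact (hg i).1
  · refine Scheme.Cover.hom_ext (𝒰.pullback₁ (pullback.fst zh j)) _ _ fun i => ?_
    change pullback.fst (pullback.fst zh j) (𝒰.f i) ≫ _ = pullback.fst (pullback.fst zh j) (𝒰.f i) ≫ _
    let θ : pullback (pullback.fst zh j) (𝒰.f i) ⟶ pullback (𝒰.f i ≫ zh) j :=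
      pullback.lift (pullback.snd _ _) (pullback.fst _ _ ≫ pullback.snd _ _) (by
        rw [← pullback.condition_assoc, pullback.condition, Category.assoc])
    have hθl : θ ≫ lA (𝒰.f i) = pullback.fst (pullback.fst zh j) (𝒰.f i) := by
      apply pullback.hom_ext
      · rw [Category.assoc, hl, ← Category.assoc, pullback.lift_fst, pullback.condition]
      · simp only [θ, lA, Category.assoc, pullback.lift_snd]
    rw [← Category.assoc, pullback.condition, Category.assoc, hG,
      show pullback.snd (pullback.fst zh j) (𝒰.f i) = θ ≫ pullback.fst (𝒰.f i ≫ zh) j from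
        (pullback.lift_fst _ _ _).symm, Category.assoc, (hg i).2, reassoc_of% hθl]
  · rw [hG]
    refine hu i _ ⟨by rw [Category.assoc, hG'.1], ?_⟩
    rw [← reassoc_of% (hl (𝒰.f i)), hG'.2]

/-- Unique extension for schemes smooth over the local ring, from unique extension for schemes smooth
over the base. -/
theorem uext_stalk [IsLocallyNoetherian S] (U : S.Opens) (nh : N ⟶ S) [LocallyOfFinitePresentation nh]
    (hN : ∀ {Z : Scheme.{u}} (z : Z ⟶ S), Smooth z → UExt z nh (pullback.fst z U.ι))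
    (s : S) {X : Scheme.{u}} (f : X ⟶ (nhdCone s).pt) [Smooth f] [QuasiCompact f] [QuasiSeparated f] :
    UExt (f ≫ S.fromSpecStalk s) nh (pullback.fst (f ≫ S.fromSpecStalk s) U.ι) := by
  haveI : ∀ W : AffNhd s, CompactSpace ↥((nhdDiag s).obj W) := fun W =>
    isCompact_univ_iff.mp (isAffineOpen_top _).isCompact
  haveI : ∀ W : AffNhd s, QuasiSeparatedSpace ↥((nhdDiag s).obj W) := fun W => inferInstance
  obtain ⟨j, M, hM⟩ := exists_model_property (nhdDiag s) (nhdCone s) (isLimitNhdCone s) @Smooth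
    (fun a b _ h => GrothLib.LimSmooth.smooth_comp_openImmersion a b h)
    GrothLib.LimSmooth.affineCase_smooth f ‹_›
  haveI : Smooth M.hom := hM
  haveI : CompactSpace ↥M.obj := compactSpace_model (nhdDiag s) (nhdCone s) M
  haveI : IsLocallyNoetherian ((nhdDiag s).obj j) := inferInstanceAs (IsLocallyNoetherian j.1.toScheme)
  haveI : IsLocallyNoetherian M.obj := LocallyOfFiniteType.isLocallyNoetherian M.hom
  haveI : AlgebraicGeometry.IsNoetherian M.obj := ⟨⟩
  let zA : M.obj ⟶ S := M.hom ≫ j.1.ι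
  have hzA : f ≫ S.fromSpecStalk s = M.proj ≫ zA := by
    rw [← nhdCone_ι j, ← Category.assoc, ← M.isPullback.w, Category.assoc]
  let fU : pullback zA U.ι ⟶ M.obj := pullback.fst zA U.ι
  let a₁ : pullback zA U.ι ⟶ (nhdDiag s).obj j := fU ≫ M.hom
  haveI : CompactSpace ↥(pullback zA U.ι) :=
    isCompact_univ_iff.mp ((fU.isOpenEmbedding.isInducing.isCompact_iff).2
      (TopologicalSpace.NoetherianSpace.isCompact _))
  haveI : IsLocallyNoetherian (pullback zA U.ι) := isLocallyNoetherian_of_isOpenImmersion fU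
  let qU : pullback (f ≫ S.fromSpecStalk s) U.ι ⟶ pullback zA U.ι :=
    pullback.lift (pullback.fst _ _ ≫ M.proj) (pullback.snd _ _)
      (by rw [Category.assoc, ← hzA, pullback.condition])
  let fQ := pullback.fst (f ≫ S.fromSpecStalk s) U.ι
  have hqU : qU ≫ fU = fQ ≫ M.proj := pullback.lift_fst _ _ _
  have hQ : IsPullback qU (fQ ≫ f) a₁ ((nhdCone s).π.app j) := by
    refine IsPullback.paste_vert ?_ M.isPullback
    refine IsPullback.of_right ?_ hqU (IsPullback.of_hasPullback zA U.ι).flip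
    rw [pullback.lift_snd, ← hzA]
    exact (IsPullback.of_hasPullback _ _).flip
  let D₀ := diag (nhdDiag s) j M.hom
  let D₁ := diag (nhdDiag s) j a₁
  let C₀ := cone (nhdDiag s) j M.hom M.isPullback
  let C₁ := cone (nhdDiag s) j a₁ hQ
  haveI (k : Over j) : CompactSpace ↥(D₀.obj k) := compactSpace_obj _ j M.hom k
  haveI (k : Over j) : QuasiSeparatedSpace ↥(D₀.obj k) := quasiSeparatedSpace_obj _ j M.hom k
  haveI (k : Over j) : CompactSpace ↥(D₁.obj k) := compactSpace_obj _ j a₁ k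
  haveI (k : Over j) : QuasiSeparatedSpace ↥(D₁.obj k) := quasiSeparatedSpace_obj _ j a₁ k
  haveI (k l : Over j) (φ : k ⟶ l) : IsAffineHom (D₀.map φ) := isAffineHom_map _ j M.hom φ
  haveI (k l : Over j) (φ : k ⟶ l) : IsAffineHom (D₁.map φ) := isAffineHom_map _ j a₁ φ
  let t₀ : D₀ ⟶ (Functor.const (Over j)).obj S :=
    toBase (nhdDiag s) M.hom ≫ (Functor.const (Over j)).map j.1.ι
  let t₁ : D₁ ⟶ (Functor.const (Over j)).obj S :=
    toBase (nhdDiag s) a₁ ≫ (Functor.const (Over j)).map j.1.ι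
  let m : ∀ k : Over j, D₁.obj k ⟶ D₀.obj k := fun k =>
    pullback.lift (pullback.fst a₁ _ ≫ fU) (pullback.snd a₁ _)
      (by rw [Category.assoc]; exact pullback.condition)
  have ht : ∀ k : Over j, t₁.app k = m k ≫ t₀.app k := fun k => by
    change (pullback.fst a₁ _ ≫ fU ≫ M.hom) ≫ j.1.ι = m k ≫ (pullback.fst M.hom _ ≫ M.hom) ≫ j.1.ι
    simp only [m, Category.assoc, pullback.lift_fst_assoc]
  have hCm : ∀ k : Over j, C₁.π.app k ≫ m k = fQ ≫ C₀.π.app k := fun k => by
    apply pullback.hom_ext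
    · rw [Category.assoc, Category.assoc, pullback.lift_fst, π_fst, π_fst_assoc, hqU]
    · rw [Category.assoc, Category.assoc, pullback.lift_snd, π_snd, π_snd, Category.assoc]
  have ht₀ : ∀ k : Over j, C₀.π.app k ≫ t₀.app k = f ≫ S.fromSpecStalk s := fun k => by
    change C₀.π.app k ≫ (pullback.fst M.hom _ ≫ M.hom) ≫ j.1.ι = _
    rw [Category.assoc, π_fst_assoc, hzA]
  have hext : ∀ k : Over j, UExt (t₀.app k) nh (m k) := fun k => by
    have hsm : Smooth (t₀.app k) := by
      change Smooth ((pullback.fst M.hom _ ≫ M.hom) ≫ j.1.ι)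
      rw [pullback.condition, Category.assoc, nhdDiag_map_ι]
      haveI : Smooth (pullback.snd M.hom ((nhdDiag s).map k.hom)) :=
        MorphismProperty.pullback_snd (P := @Smooth) _ _ ‹_›
      exact GrothLib.LimSmooth.smooth_comp_openImmersion _ _ ‹_›
    refine UExt.of_isPullback (q := pullback.fst a₁ _ ≫ pullback.snd zA U.ι) ?_ (hN _ hsm)
    have hA : IsPullback (pullback.fst a₁ ((nhdDiag s).map k.hom)) (m k) fU (pullback.fst M.hom _) := by
      refine IsPullback.of_bot ?_ (pullback.lift_fst _ _ _).symm (IsPullback.of_hasPullback M.hom _)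
      rw [pullback.lift_snd]
      exact IsPullback.of_hasPullback _ _
    have h3 := hA.flip.paste_vert (IsPullback.of_hasPullback zA U.ι)
    change IsPullback (m k) _ ((pullback.fst M.hom _ ≫ M.hom) ≫ j.1.ι) U.ι
    rw [Category.assoc]
    exact h3
  intro h hh
  refine existsUnique_of_exists_of_unique ?_ ?_
  · obtain ⟨k, g, hg, hgν⟩ := Scheme.exists_π_app_comp_eq_of_locallyOfFinitePresentation D₁ t₁ nh C₁
      (isLimitCone _ j a₁ hQ (isLimitNhdCone s)) h (by
        ext k : 2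
        change C₁.π.app k ≫ t₁.app k = h ≫ nh
        rw [ht, reassoc_of% (hCm k), ht₀, hh])
    obtain ⟨F, ⟨hF1, hF2⟩, -⟩ := hext k g (by rw [hgν, ht])
    exact ⟨C₀.π.app k ≫ F, by rw [Category.assoc, hF1, ht₀], by rw [← reassoc_of% (hCm k), hF2, hg]⟩
  · rintro F F' ⟨hF, hFh⟩ ⟨hF', hFh'⟩
    have hlim := isLimitCone _ j M.hom M.isPullback (isLimitNhdCone s)
    obtain ⟨k, g, hg, hgν⟩ := Scheme.exists_π_app_comp_eq_of_locallyOfFinitePresentation D₀ t₀ nh C₀ hlim F (by
        ext k : 2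
        change C₀.π.app k ≫ t₀.app k = F ≫ nh
        rw [ht₀, hF])
    obtain ⟨k', g', hg', hgν'⟩ := Scheme.exists_π_app_comp_eq_of_locallyOfFinitePresentation D₀ t₀ nh C₀ hlim F' (by
        ext k : 2
        change C₀.π.app k ≫ t₀.app k = F' ≫ nh
        rw [ht₀, hF'])
    let l := IsCofiltered.min k k'
    let φ := IsCofiltered.minToLeft k k'
    let φ' := IsCofiltered.minToRight k k'
    have hn : ∀ {p q : Over j} (χ : p ⟶ q), D₀.map χ ≫ t₀.app q = t₀.app p := fun χ =>
      (t₀.naturality χ).trans (Category.comp_id _)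
    obtain ⟨p, ψ, hψ⟩ := Scheme.exists_hom_comp_eq_comp_of_locallyOfFiniteType D₁ t₁ nh C₁
      (isLimitCone _ j a₁ hQ (isLimitNhdCone s)) (i := l) (m l ≫ D₀.map φ ≫ g) (m l ≫ D₀.map φ' ≫ g')
      (by rw [Category.assoc, Category.assoc, hgν, hn, ht])
      (by rw [Category.assoc, Category.assoc, hgν', hn, ht])
      (by rw [reassoc_of% (hCm l), reassoc_of% (hCm l), C₀.w_assoc, C₀.w_assoc, hg, hg', hFh, hFh'])
    have hmm : D₁.map ψ ≫ m l = m p ≫ D₀.map ψ := by
      apply pullback.hom_ext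
      · rw [Category.assoc, Category.assoc, pullback.lift_fst, map_fst_assoc, map_fst, pullback.lift_fst]
      · rw [Category.assoc, Category.assoc, pullback.lift_snd, map_snd, map_snd, pullback.lift_snd_assoc]
    have heq : D₀.map ψ ≫ D₀.map φ ≫ g = D₀.map ψ ≫ D₀.map φ' ≫ g' := by
      refine (hext p).eq_of_comp ?_ ?_ ?_
      · simp only [Category.assoc]; rw [hgν, hn, hn]
      · simp only [Category.assoc]; rw [hgν', hn, hn]
      · rw [← reassoc_of% hmm, ← reassoc_of% hmm]; exact hψ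
    calc F = C₀.π.app p ≫ D₀.map ψ ≫ D₀.map φ ≫ g := by rw [C₀.w_assoc, C₀.w_assoc, hg]
      _ = C₀.π.app p ≫ D₀.map ψ ≫ D₀.map φ' ≫ g' := by rw [heq]
      _ = F' := by rw [C₀.w_assoc, C₀.w_assoc, hg']

end GrothLib.NeronLoc10
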